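import Mathlib
import Cfsg.Agent.H411.PrA.Defs
import Cfsg.Agent.S0713
import Cfsg.Agent.H487.Red.Gen

/-!
# S3618: quasiprimitive to primitive (helper487)
-/

set_option autoImplicit false

open Equiv Equiv.Perm MulAction Cfsg.Agent.H411.PrA

namespace Cfsg.Agent.H487.Red

universe u v

/-- elements of prime order fix the small invariant sets pointwise -/
theorem fix_of_small {G : Type u} {Ω : Type v} [Group G] [MulAction G Ω] {p : ℕ} (hp : p.Prime) {x : G}
    (hx : orderOf x = p) {B : Finset Ω} (hB : ∀ ω ∈ B, x • ω ∈ B) (hb : B.card < p) {ω : Ω} (hω : ω ∈ B) :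
    x • ω = ω := by
  classical
  by_contra hne
  have hall : ∀ i : ℕ, x ^ i • ω ∈ B := by
    intro i
    induction i with
    | zero => rwa [pow_zero, one_smul]
    | succ i ih => rw [pow_succ', mul_smul]; exact hB _ ih
  have key : ∀ i j : ℕ, i < j → j < p → x ^ i • ω ≠ x ^ j • ω := by
    intro i j hij hjp h
    have h1 : x ^ (j - i) • ω = ω := by
      have h2 : x ^ j = x ^ i * x ^ (j - i) := by rw [← pow_add]; congr 1; omega
      rw [h2, mul_smul] at h
      exact (MulAction.injective (x ^ i) h).symm
    have hcop : Nat.Coprime (j - i) (orderOf x) := by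
      rw [hx]
      exact (Nat.coprime_of_lt_prime (by omega) (by omega) hp).symm
    obtain ⟨m, hm⟩ := exists_pow_eq_self_of_coprime hcop
    have h3 : x ∈ stabilizer G ω := by
      rw [← hm]
      exact Subgroup.pow_mem _ h1 m
    exact hne h3
  have hinj : Set.InjOn (fun i : ℕ => x ^ i • ω) (Finset.range p : Set ℕ) := by
    intro i hi j hj h
    have hi' : i < p := by simpa using hi
    have hj' : j < p := by simpa using hj
    rcases lt_trichotomy i j with h1 | h1 | h1
    · exact absurd h (key i j h1 hj')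
    · exact h1
    · exact absurd h.symm (key j i h1 hi')
  have h1 : (Finset.range p).card ≤ B.card :=
    Finset.card_le_card_of_injOn (fun i => x ^ i • ω) (fun i _ => hall i) hinj
  rw [Finset.card_range] at h1
  omega

/-- elements of odd order are even -/
theorem sign_of_pow {α : Type*} [Fintype α] [DecidableEq α] {σ : Perm α} {p : ℕ} (hp : Odd p) (h : σ ^ p = 1) :
    sign σ = 1 := by
  have h1 : (sign σ) ^ p = 1 := by rw [← map_pow, h, map_one]
  rcases Int.units_eq_one_or (sign σ) with h2 | h2
  · exact h2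
  · rw [h2, hp.neg_one_pow] at h1
    exact absurd h1 (by decide)

theorem num_a {s k b : ℕ} (hb : 1 ≤ b) (h : 2 * (s + 1) ≤ 5 * k) : 2 * (s * b + 1) ≤ 5 * (k * b) := by
  calc 2 * (s * b + 1) ≤ 2 * (s * b + b) := by omega
    _ = (2 * (s + 1)) * b := by ring
    _ ≤ (5 * k) * b := Nat.mul_le_mul_right b h
    _ = 5 * (k * b) := by ring

theorem num_b {k b : ℕ} (hk : 1 ≤ k) (hb : 1 ≤ b) : 2 * (0 * b + 1) ≤ 5 * (k * b) := by
  have := Nat.mul_le_mul hk hb
  omega

/-- **the core**: a system of blocks of size `b ≥ 2` with a faithful primitive action -/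
theorem core (hprim : PrimThm.{v}) {G : Type u} {Ω : Type v} [Group G] [MulAction G Ω]
    [Fintype Ω] [DecidableEq Ω]
    (hqp : ∀ N : Subgroup G, N.Normal → N ≠ ⊥ → MulAction.IsPretransitive ↥N Ω)
    (p q : ℕ) (hp : p.Prime) (hq2 : 2 ≤ q) (hqp' : q < p) (g : G) (hg : orderOf g = p)
    (hmoved : Fintype.card Ω = q * p + Nat.card ↥(MulAction.fixedBy Ω g))
    {Y : Type v} [Fintype Y] [DecidableEq Y] (f : G →* Perm Y) (hf : Function.Injective f)
    (hfp : IsPreprimitive f.range Y) (π : Ω → Y) (hπ : ∀ (x : G) ω, π (x • ω) = f x (π ω)) {b : ℕ}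
    (hb : ∀ y, (Finset.univ.filter (fun ω => π ω = y)).card = b) (hb2 : 2 ≤ b) :
    2 * (Nat.card ↥(MulAction.fixedBy Ω g) + 1) ≤ 5 * q := by
  have hp0 := hp.pos
  have hodd : Odd p := hp.odd_of_ne_two (by omega)
  obtain ⟨y, hy⟩ : ∃ y, y = f g := ⟨_, rfl⟩
  have hyo : orderOf y = p := by rw [hy, orderOf_injective f hf, hg]
  obtain ⟨k', hk'⟩ := cycleType_prime_order (σ := y) (by rw [hyo]; exact hp)
  obtain ⟨k, hk⟩ : ∃ k, k = k' + 1 := ⟨_, rfl⟩
  rw [← hk, hyo] at hk'
  have hsup : y.support.card = k * p := by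
    have h1 := sum_cycleType y
    rw [hk', Multiset.sum_replicate, smul_eq_mul] at h1
    exact h1.symm
  -- preimages
  have hpre : ∀ T : Finset Y, (Finset.univ.filter (fun ω => π ω ∈ T)).card = T.card * b := by
    intro T
    rw [Finset.card_eq_sum_card_fiberwise (f := π) (t := T) (fun ω hω => by simpa using hω)]
    refine Finset.sum_const_nat fun t ht => ?_
    rw [← hb t]
    congr 1
    ext ω
    simp only [Finset.mem_filter, Finset.mem_univ, true_and]
    constructor
    · exact fun h => h.2
    · intro h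
      exact ⟨by rw [h]; exact ht, h⟩
  have hN : Fintype.card Ω = Fintype.card Y * b := by
    have h1 := hpre Finset.univ
    rw [Finset.card_univ] at h1
    rw [← h1]
    simp
  have hfix : Nat.card ↥(MulAction.fixedBy Ω g) = (Finset.univ.filter (fun ω : Ω => g • ω = ω)).card := by
    rw [Nat.card_eq_fintype_card, Fintype.card_subtype]
    rfl
  have hmv : (Finset.univ.filter (fun ω : Ω => g • ω ≠ ω)).card = q * p := by
    have h1 := Finset.card_filter_add_card_filter_not (s := (Finset.univ : Finset Ω)) (fun ω : Ω => g • ω = ω)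
    rw [Finset.card_univ, ← hfix] at h1
    have e : (Finset.univ.filter (fun ω : Ω => g • ω ≠ ω)).card = (Finset.univ.filter (fun ω : Ω => ¬ g • ω = ω)).card := by
      congr 1
    rw [e]
    omega
  have h1 : Finset.univ.filter (fun ω => π ω ∈ y.support) ⊆ Finset.univ.filter (fun ω : Ω => g • ω ≠ ω) := by
    intro ω hω
    simp only [Finset.mem_filter, Finset.mem_univ, true_and] at hω ⊢
    intro h
    rw [mem_support] at hω
    apply hω
    rw [hy, ← hπ, h]
  have h2 : k * b ≤ q := by
    have h3 := Finset.card_le_card h1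
    rw [hpre, hsup, hmv] at h3
    have h4 : (k * b) * p ≤ q * p := by nlinarith
    exact Nat.le_of_mul_le_mul_right h4 hp0
  have hk1 : 1 ≤ k := by omega
  have hbp : b < p := by
    have := Nat.mul_le_mul_right b hk1
    omega
  have small : ∀ x : G, orderOf x = p → ∀ t, f x t = t → ∀ ω, π ω = t → x • ω = ω := by
    intro x hx t ht ω hω
    refine fix_of_small hp hx (B := Finset.univ.filter (fun ω => π ω = t)) (fun ω' hω' => ?_)
      (by rw [hb]; exact hbp) (by simpa using hω)
    simp only [Finset.mem_filter, Finset.mem_univ, true_and] at hω' ⊢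
    rw [hπ, hω', ht]
  have h3 : Finset.univ.filter (fun ω : Ω => g • ω ≠ ω) ⊆ Finset.univ.filter (fun ω => π ω ∈ y.support) := by
    intro ω hω
    simp only [Finset.mem_filter, Finset.mem_univ, true_and] at hω ⊢
    rw [mem_support]
    intro h
    rw [hy] at h
    exact hω (small g hg _ h ω rfl)
  have h4 : q = k * b := by
    have h5 := Finset.card_le_card h3
    rw [hpre, hsup, hmv] at h5
    have h6 : q * p ≤ (k * b) * p := by nlinarith
    exact le_antisymm (Nat.le_of_mul_le_mul_right h6 hp0) h2
  obtain ⟨s, hs⟩ : ∃ s, Fintype.card Y = k * p + s := by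
    refine ⟨Fintype.card Y - k * p, ?_⟩
    have h5 : y.support.card ≤ Fintype.card Y := Finset.card_le_univ _
    rw [hsup] at h5
    omega
  have hfs : Nat.card ↥(MulAction.fixedBy Ω g) = s * b := by
    have h5 := hmoved
    rw [hN, hs, h4] at h5
    have h6 : (k * p + s) * b = k * b * p + s * b := by ring
    omega
  rw [hfs, h4]
  -- the alternating case
  have halt : alternatingGroup Y ≤ f.range → s = 0 := by
    intro hA
    by_contra hs0
    -- a fixed block
    obtain ⟨y0, hy0⟩ : ∃ y0, y y0 = y0 := by
      by_contra hcon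
      push Not at hcon
      have h5 : y.support = Finset.univ := by
        ext t
        simp [hcon t]
      rw [h5, Finset.card_univ, hs] at hsup
      omega
    have hAn : ((alternatingGroup Y).comap f).Normal := inferInstance
    have hAt : MulAction.IsPretransitive ↥((alternatingGroup Y).comap f) Ω := by
      refine hqp _ hAn fun h => ?_
      have h5 : g ∈ (alternatingGroup Y).comap f := by
        rw [Subgroup.mem_comap, mem_alternatingGroup, ← hy]
        exact sign_of_pow hodd (by rw [← hyo]; exact pow_orderOf_eq_one y)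
      rw [h, Subgroup.mem_bot] at h5
      rw [h5, orderOf_one] at hg
      exact hp.one_lt.ne hg
    obtain ⟨ω, hω, ω', hω', hne⟩ := Finset.one_lt_card.1 (by rw [hb y0]; exact hb2)
    simp only [Finset.mem_filter, Finset.mem_univ, true_and] at hω hω'
    obtain ⟨⟨h, hhA⟩, hh⟩ := hAt.exists_smul_eq ω ω'
    change h • ω = ω' at hh
    have hfh : f h y0 = y0 := by rw [← hω, ← hπ, hh, hω', hω]
    let P : Subgroup G :=
      { carrier := {x | ∀ ω, π ω = y0 → x • ω = ω}
        mul_mem' := fun {a b} ha hb ω hω => by rw [mul_smul, hb ω hω, ha ω hω]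
        one_mem' := fun ω _ => one_smul _ _
        inv_mem' := fun {a} ha ω hω => by
          have := ha ω hω
          rw [inv_smul_eq_iff, this] }
    have h5 : f h ∈ P.map f := by
      refine even_mem (p := p) (by omega) (y := y0) ?_ (fun ρ hρ hρ0 => ?_) (mem_alternatingGroup.1 hhA) hfh
      · rw [hs]
        have := Nat.mul_le_mul_right p hk1
        omega
      · have hρo : orderOf ρ = p := by
          rw [← lcm_cycleType, hρ, Multiset.lcm_singleton]
          simp
        have h6 : ρ ∈ alternatingGroup Y := mem_alternatingGroup.2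
          (sign_of_pow hodd (by rw [← hρo]; exact pow_orderOf_eq_one ρ))
        obtain ⟨x, hx⟩ := hA h6
        refine ⟨x, fun ω hω => ?_, hx⟩
        exact small x (by rw [← orderOf_injective f hf, hx, hρo]) y0 (by rw [hx, hρ0]) ω hω
    obtain ⟨x, hx, hxh⟩ := h5
    have h6 : x = h := hf hxh
    rw [← hh, ← h6] at hne
    exact hne (hx ω hω).symm
  have hy' : y ∈ f.range := ⟨g, hy.symm⟩
  rcases Nat.lt_or_ge k 2 with hk2 | hk2
  · -- one cycle
    have hk1' : k = 1 := by omega
    rw [hk1']
    rcases Nat.lt_or_ge s 3 with hs3 | hs3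
    · have h5 : s * b ≤ 2 * b := Nat.mul_le_mul_right b (by omega)
      omega
    · have h5 : y.IsCycle := card_cycleType_eq_one.1 (by rw [hk', Multiset.card_replicate, hk1'])
      have h6 : s = 0 := halt (Cfsg.Agent.S0713.result f.range hfp hp (by rw [hs, hk1']; omega)
        (by rw [hs, hk1']; omega) h5 (by rw [hsup, hk1', one_mul]) hy')
      omega
  · have hkb : k * 2 ≤ k * b := Nat.mul_le_mul_left k hb2
    have hkp : k < p := by omega
    rcases hprim Y f.range hfp p k hp hk2 hkp y hy' hyo hsup with h5 | h5 | ⟨c, hc, h5, h6, -⟩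
    · rw [hs] at h5
      have h6 : k * p + s - k * p = s := by omega
      rw [h6] at h5
      exact num_a (by omega) h5
    · rw [halt h5]
      exact num_b hk1 (by omega)
    · have h7 : 2 * k + 1 ≤ p := by omega
      have h8 : c = p := by omega
      rw [h8, hs] at h5
      have h9 : p.choose 2 * 2 = p * (p - 1) := by
        rw [Nat.choose_two_right]
        exact Nat.div_mul_cancel (Nat.even_mul_pred_self p).two_dvd
      obtain ⟨p', hp'⟩ : ∃ p', p = p' + 1 := ⟨p - 1, by omega⟩
      have h10 : p - 1 = 2 * k := by omega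
      rw [← h5, h10] at h9
      have h11 : (k * p + s) * 2 = 2 * (k * p) + 2 * s := by ring
      have h12 : p * (2 * k) = 2 * (k * p) := by ring
      have h13 : s = 0 := by omega
      rw [h13]
      exact num_b hk1 (by omega)

/-- **quasiprimitive to primitive** -/
theorem reduction (hprim : PrimThm.{v}) {G : Type u} {Ω : Type v} [Group G] [Finite G] [MulAction G Ω] [FaithfulSMul G Ω]
    [Fintype Ω] [DecidableEq Ω]
    (hqp : ∀ N : Subgroup G, N.Normal → N ≠ ⊥ → MulAction.IsPretransitive ↥N Ω)
    (p q : ℕ) (hp : p.Prime) (hq2 : 2 ≤ q) (hqp' : q < p) (g : G) (hg : orderOf g = p)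
    (hmoved : Fintype.card Ω = q * p + Nat.card ↥(MulAction.fixedBy Ω g)) :
    2 * (Nat.card ↥(MulAction.fixedBy Ω g) + 1) ≤ 5 * q ∨
    (∀ σ : Equiv.Perm Ω, Equiv.Perm.sign σ = 1 → ∃ x : G, (MulAction.toPerm x : Equiv.Perm Ω) = σ) ∨
    (∃ c : ℕ, p ≤ c ∧ Fintype.card Ω = c.choose 2 ∧ 2 * q + p + 1 = 2 * c ∧
      (Nonempty (G ≃* alternatingGroup (Fin c)) ∨ Nonempty (G ≃* Equiv.Perm (Fin c)))) := by
  classical
  have hg1 : g ≠ 1 := by
    rintro rfl
    rw [orderOf_one] at hg
    exact hp.one_lt.ne hg
  have hG : (⊤ : Subgroup G) ≠ ⊥ := fun h => hg1 (by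
    have : g ∈ (⊤ : Subgroup G) := Subgroup.mem_top g
    rwa [h, Subgroup.mem_bot] at this)
  have htop := hqp ⊤ inferInstance hG
  have htr : IsPretransitive G Ω := ⟨fun a b => by
    obtain ⟨x, hx⟩ := htop.exists_smul_eq a b
    exact ⟨x, hx⟩⟩
  -- a moved point
  obtain ⟨a, ha⟩ : ∃ a : Ω, g • a ≠ a := by
    by_contra hcon
    push Not at hcon
    exact hg1 (eq_of_smul_eq_smul (α := Ω) fun a => by rw [hcon a, one_smul])
  have hnt : Nontrivial Ω := ⟨_, _, ha⟩
  have hF : Function.Injective (toPermHom G Ω) := toPerm_injective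
  by_cases hpr : IsPreprimitive G Ω
  · -- primitive
    have hK : IsPreprimitive (toPermHom G Ω).range Ω := by
      let F : Ω →ₑ[(toPermHom G Ω).rangeRestrict] Ω := { toFun := id, map_smul' := fun _ _ => rfl }
      exact (isPreprimitive_congr (f := F) (MonoidHom.rangeRestrict_surjective _) Function.bijective_id).1 hpr
    have hxo : orderOf (toPermHom G Ω g) = p := by rw [orderOf_injective _ hF, hg]
    have hsup : (toPermHom G Ω g).support.card = q * p := by
      have hfix : Nat.card ↥(MulAction.fixedBy Ω g) = (Finset.univ.filter (fun ω : Ω => g • ω = ω)).card := by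
        rw [Nat.card_eq_fintype_card, Fintype.card_subtype]
        rfl
      have h1 := Finset.card_filter_add_card_filter_not (s := (Finset.univ : Finset Ω)) (fun ω : Ω => g • ω = ω)
      rw [Finset.card_univ, ← hfix] at h1
      have e : (toPermHom G Ω g).support = Finset.univ.filter (fun ω : Ω => ¬ g • ω = ω) := by
        ext ω
        simp
      rw [e]
      omega
    rcases hprim Ω _ hK p q hp hq2 hqp' _ ⟨g, rfl⟩ hxo hsup with h1 | h1 | ⟨c, h1, h2, h3, h4⟩
    · left
      have h2 : Fintype.card Ω - q * p = Nat.card ↥(MulAction.fixedBy Ω g) := by omega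
      rwa [h2] at h1
    · right; left
      intro σ hσ
      obtain ⟨x, hx⟩ := h1 (mem_alternatingGroup.2 hσ)
      exact ⟨x, hx⟩
    · right; right
      refine ⟨c, h1, h2, h3, ?_⟩
      have e : G ≃* (toPermHom G Ω).range := MonoidHom.ofInjective hF
      rcases h4 with h4 | h4
      · exact Or.inl (h4.map fun e' => e.trans e')
      · exact Or.inr (h4.map fun e' => e.trans e')
  · -- imprimitive
    left
    have hst : ¬ IsCoatom (stabilizer G a) := fun h => hpr ((isCoatom_stabilizer_iff_preprimitive G a).1 h)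
    rcases eq_top_or_exists_le_coatom (stabilizer G a) with h1 | ⟨W, hW, hW'⟩
    · exfalso
      have h2 : g ∈ stabilizer G a := by rw [h1]; exact Subgroup.mem_top g
      exact ha h2
    -- the blocks
    have hfin : Finite (G ⧸ W) := inferInstance
    have : Fintype (G ⧸ W) := Fintype.ofFinite _
    let Y : Type v := ULift.{v} (Fin (Fintype.card (G ⧸ W)))
    let E : (G ⧸ W) ≃ Y := (Fintype.equivFin (G ⧸ W)).trans Equiv.ulift.symm
    let f : G →* Perm Y := (Equiv.permCongrHom E).toMonoidHom.comp (toPermHom G (G ⧸ W))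
    have hfE : ∀ (x : G) (B : G ⧸ W), f x (E B) = E (x • B) := fun x B => by
      change E (x • E.symm (E B)) = _
      rw [Equiv.symm_apply_apply]
    have hX : IsPreprimitive G (G ⧸ W) := by
      have hnt' : Nontrivial (G ⧸ W) := by
        obtain ⟨x, hx⟩ : ∃ x : G, x ∉ W := by
          by_contra hcon
          push Not at hcon
          exact hW.1 (eq_top_iff.2 fun x _ => hcon x)
        refine ⟨(x : G ⧸ W), ((1 : G) : G ⧸ W), fun h => hx ?_⟩
        have h2 := QuotientGroup.eq.1 h
        rw [mul_one] at h2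
        exact inv_mem_iff.1 h2
      refine (isCoatom_stabilizer_iff_preprimitive G ((1 : G) : G ⧸ W)).1 ?_
      rw [stabilizer_quotient]
      exact hW
    have hK : IsPreprimitive f.range Y := by
      let F : (G ⧸ W) →ₑ[f.rangeRestrict] Y := { toFun := E, map_smul' := fun x B => (hfE x B).symm }
      exact (isPreprimitive_congr (f := F) (MonoidHom.rangeRestrict_surjective _) E.bijective).1 hX
    have hf : Function.Injective f := by
      rw [← MonoidHom.ker_eq_bot_iff]
      by_contra hne
      have htr' := hqp f.ker inferInstance hne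
      apply hW.1
      rw [eq_top_iff]
      intro x _
      obtain ⟨⟨n, hn⟩, hn'⟩ := htr'.exists_smul_eq a (x • a)
      change n • a = x • a at hn'
      have h2 : n⁻¹ * x ∈ stabilizer G a := by
        rw [mem_stabilizer_iff, mul_smul, ← hn', inv_smul_smul]
      have h3 : n ∈ W := by
        have h4 := hfE n ((1 : G) : G ⧸ W)
        rw [MonoidHom.mem_ker.1 hn] at h4
        have h5 : ((1 : G) : G ⧸ W) = n • ((1 : G) : G ⧸ W) := E.injective h4
        have h6 : n ∈ stabilizer G ((1 : G) : G ⧸ W) := h5.symm
        rwa [stabilizer_quotient] at h6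
      have h4 : x = n * (n⁻¹ * x) := by group
      rw [h4]
      exact mul_mem h3 (hW' h2)
    -- the projection
    choose c hc using fun ω : Ω => htr.exists_smul_eq a ω
    let π0 : Ω → G ⧸ W := fun ω => (c ω : G ⧸ W)
    have hπ0 : ∀ x : G, π0 (x • a) = (x : G ⧸ W) := by
      intro x
      change (c (x • a) : G ⧸ W) = x
      rw [QuotientGroup.eq]
      apply hW'
      rw [mem_stabilizer_iff, mul_smul, inv_smul_eq_iff, hc]
    have hπ1 : ∀ (x : G) ω, π0 (x • ω) = x • π0 ω := by
      intro x ω
      obtain ⟨y, rfl⟩ := htr.exists_smul_eq a ω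
      rw [← mul_smul, hπ0, hπ0]
      rfl
    have hfib : ∀ B : G ⧸ W, (Finset.univ.filter (fun ω => π0 ω = B)).card =
        (Finset.univ.filter (fun ω => π0 ω = ((1 : G) : G ⧸ W))).card := by
      intro B
      obtain ⟨x, rfl⟩ := QuotientGroup.mk_surjective B
      have h2 : Finset.univ.filter (fun ω => π0 ω = (x : G ⧸ W)) =
          (Finset.univ.filter (fun ω => π0 ω = ((1 : G) : G ⧸ W))).image (fun ω => x • ω) := by
        ext ω
        simp only [Finset.mem_filter, Finset.mem_univ, true_and, Finset.mem_image]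
        constructor
        · intro h
          refine ⟨x⁻¹ • ω, ?_, smul_inv_smul x ω⟩
          rw [hπ1, h]
          change ((x⁻¹ * x : G) : G ⧸ W) = _
          rw [inv_mul_cancel]
        · rintro ⟨ω', h, rfl⟩
          rw [hπ1, h]
          change ((x * 1 : G) : G ⧸ W) = _
          rw [mul_one]
      rw [h2, Finset.card_image_of_injective _ (MulAction.injective x)]
    refine core hprim hqp p q hp hq2 hqp' g hg hmoved f hf hK (fun ω => E (π0 ω)) (fun x ω => by rw [hπ1, hfE])
      (b := (Finset.univ.filter (fun ω => π0 ω = ((1 : G) : G ⧸ W))).card) (fun y => ?_) ?_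
    · rw [← hfib (E.symm y)]
      congr 1
      ext ω
      simp only [Finset.mem_filter, Finset.mem_univ, true_and]
      exact E.eq_symm_apply.symm
    · obtain ⟨w, hw, hw'⟩ : ∃ w ∈ W, w ∉ stabilizer G a := by
        by_contra hcon
        push Not at hcon
        exact hst (by rw [le_antisymm hW' hcon]; exact hW)
      refine Finset.one_lt_card.2 ⟨a, ?_, w • a, ?_, fun h => hw' h.symm⟩
      · simp only [Finset.mem_filter, Finset.mem_univ, true_and]
        have := hπ0 1
        rwa [one_smul] at this
      · simp only [Finset.mem_filter, Finset.mem_univ, true_and]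
        rw [hπ0, QuotientGroup.eq, mul_one]
        exact inv_mem hw

end Cfsg.Agent.H487.Red
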